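import Groth.Agent.Subtr56.DatumLim.FibLim
import Groth.Agent.Desc59.DDOfTheta
import Groth.Agent.S0591
import Groth.Agent.S9192
import Groth.Agent.S9190
import Groth.Agent.S9218
import Groth.Agent.S9219

/-! Étale descent data descend along limits of morphisms. -/

set_option autoImplicit false
set_option linter.style.haveILetI false
set_option backward.isDefEq.respectTransparency false
set_option backward.defeqAttrib.useBackward true

universe u

open CategoryTheory CategoryTheory.Limits AlgebraicGeometry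

noncomputable section

namespace Groth.Agent.Subtr56.DatumLim

open Desc Groth.Agent.Desc59

variable {I : Type u} [SmallCategory I] {X Y : I ⥤ Scheme.{u}} (g : X ⟶ Y)
  (cX : Cone X) (cY : Cone Y) {gl : cX.pt ⟶ cY.pt} (hgl : ∀ i, cX.π.app i ≫ g.app i = gl ≫ cY.π.app i)

/-- The comparison of sources. -/
def srcTo {D : SchDD gl} {i : I} {V : Scheme.{u}} (v : V ⟶ X.obj i) (a : D.obj.left ⟶ V)
    (ha : a ≫ v = D.obj.hom ≫ cX.π.app i) : src D ⟶ pullback (g.app i) (v ≫ g.app i) :=
  pullback.map gl (D.obj.hom ≫ gl) (g.app i) (v ≫ g.app i) (cX.π.app i) a (cY.π.app i) (hgl i).symm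
    (by rw [reassoc_of% ha, hgl, Category.assoc])

/-- A gluing morphism at a stage, without the axioms. -/
structure Pre (D : SchDD gl) (i : I) where
  V : Scheme.{u}
  v : V ⟶ X.obj i
  a : D.obj.left ⟶ V
  cart : IsPullback a D.obj.hom v (cX.π.app i)
  etale : Etale v
  sep : IsSeparated v
  qc : QuasiCompact v
  t : pullback (g.app i) (v ≫ g.app i) ⟶ V
  ht : t ≫ v = pullback.fst (g.app i) (v ≫ g.app i)
  compat : θ D ≫ a = srcTo g cX cY hgl v a cart.w ≫ t

variable {g cX cY hgl} {D : SchDD gl}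

namespace Pre

variable {i k : I} (S : Pre g cX cY hgl D i) (φ : k ⟶ i)

/-- The transition of sources. -/
def srcMap' : pullback (g.app k) (pullback.snd S.v (X.map φ) ≫ g.app k) ⟶
    pullback (g.app i) (S.v ≫ g.app i) :=
  pullback.map _ _ _ _ (X.map φ) (pullback.fst S.v (X.map φ)) (Y.map φ) (g.naturality φ).symm (by
    rw [Category.assoc, ← g.naturality φ, ← pullback.condition_assoc])

/-- Base change to a further stage. -/
def map : Pre g cX cY hgl D k where
  V := pullback S.v (X.map φ)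
  v := pullback.snd S.v (X.map φ)
  a := pullback.lift S.a (D.obj.hom ≫ cX.π.app k) (by rw [S.cart.w, Category.assoc, cX.w φ])
  cart := by
    refine IsPullback.of_right (h₁₂ := pullback.fst S.v (X.map φ)) (v₁₃ := S.v) (h₂₂ := X.map φ) ?_
      (pullback.lift_snd _ _ _) (IsPullback.of_hasPullback _ _)
    rw [pullback.lift_fst, cX.w φ]
    exact S.cart
  etale := MorphismProperty.pullback_snd _ _ S.etale
  sep := MorphismProperty.pullback_snd _ _ S.sep
  qc := MorphismProperty.pullback_snd _ _ S.qc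
  t := pullback.lift (S.srcMap' φ ≫ S.t) (pullback.fst _ _) (by
    rw [Category.assoc, S.ht, srcMap', pullback.lift_fst])
  ht := pullback.lift_snd _ _ _
  compat := by
    apply pullback.hom_ext
    · simp only [Category.assoc, pullback.lift_fst, S.compat]
      rw [← Category.assoc]
      refine congrArg (· ≫ S.t) ?_
      apply pullback.hom_ext
      · simp [srcTo, srcMap']
      · simp [srcTo, srcMap']
    · simp [srcTo]

theorem map_t_fst {T : Scheme.{u}} (x : T ⟶ X.obj k) (w : T ⟶ pullback S.v (X.map φ))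
    (h : x ≫ g.app k = w ≫ pullback.snd S.v (X.map φ) ≫ g.app k) :
    pullback.lift x w h ≫ (S.map φ).t ≫ pullback.fst S.v (X.map φ) =
      pullback.lift (x ≫ X.map φ) (w ≫ pullback.fst S.v (X.map φ)) (by
        rw [Category.assoc, g.naturality φ, reassoc_of% h, ← g.naturality φ, ← pullback.condition_assoc,
          Category.assoc]) ≫ S.t := by
  show pullback.lift x w h ≫ pullback.lift (S.srcMap' φ ≫ S.t) _ _ ≫ pullback.fst _ _ = _
  rw [pullback.lift_fst, ← Category.assoc]
  refine congrArg (· ≫ S.t) ?_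
  apply pullback.hom_ext <;> simp [srcMap']

theorem map_t_snd {T : Scheme.{u}} (x : T ⟶ X.obj k) (w : T ⟶ pullback S.v (X.map φ))
    (h : x ≫ g.app k = w ≫ pullback.snd S.v (X.map φ) ≫ g.app k) :
    pullback.lift x w h ≫ (S.map φ).t ≫ pullback.snd S.v (X.map φ) = x := by
  show pullback.lift x w h ≫ pullback.lift (S.srcMap' φ ≫ S.t) _ _ ≫ pullback.snd _ _ = _
  rw [pullback.lift_snd, pullback.lift_fst]

/-- Composition of two sections at a stage. -/
def Trans : Prop :=
  ∀ {T : Scheme.{u}} (w : T ⟶ S.V) (x₁ x₂ : T ⟶ X.obj i) (h₁ : x₁ ≫ g.app i = w ≫ S.v ≫ g.app i)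
    (h₂ : x₂ ≫ g.app i = w ≫ S.v ≫ g.app i),
    pullback.lift x₂ (pullback.lift x₁ w h₁ ≫ S.t)
        (by rw [Category.assoc, reassoc_of% S.ht, pullback.lift_fst_assoc, h₁, h₂]) ≫ S.t =
      pullback.lift x₂ w h₂ ≫ S.t

/-- The unit axiom at a stage. -/
def Diag : Prop := pullback.lift S.v (𝟙 S.V) (Category.id_comp _).symm ≫ S.t = 𝟙 S.V

theorem Diag.map {S : Pre g cX cY hgl D i} (h : S.Diag) (φ : k ⟶ i) : (S.map φ).Diag := by
  apply pullback.hom_ext
  · refine (Category.assoc _ _ _).trans ((S.map_t_fst φ _ _ _).trans ?_)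
    have e : pullback.lift (f := g.app i) (g := S.v ≫ g.app i) ((S.map φ).v ≫ X.map φ)
        (𝟙 _ ≫ pullback.fst S.v (X.map φ))
        (by
          rw [Category.id_comp]
          exact (congrArg (· ≫ g.app i) (pullback.condition (f := S.v) (g := X.map φ)).symm).trans (Category.assoc _ _ _)) =
        pullback.fst S.v (X.map φ) ≫ pullback.lift S.v (𝟙 S.V) (Category.id_comp _).symm := by
      apply pullback.hom_ext
      · rw [pullback.lift_fst, Category.assoc, pullback.lift_fst]
        exact pullback.condition.symm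
      · rw [pullback.lift_snd, Category.assoc, pullback.lift_snd, Category.id_comp, Category.comp_id]
    exact ((congrArg (· ≫ S.t) e).trans (Category.assoc _ _ _)).trans
      ((congrArg (_ ≫ ·) h).trans ((Category.comp_id _).trans (Category.id_comp _).symm))
  · refine (Category.assoc _ _ _).trans ((S.map_t_snd φ _ _ _).trans ?_)
    exact (Category.id_comp _).symm

end Pre

section

variable [IsCofiltered I] [∀ (i j : I) (φ : i ⟶ j), IsAffineHom (X.map φ)]
  [∀ (i j : I) (φ : i ⟶ j), IsAffineHom (Y.map φ)] [∀ i, CompactSpace (X.obj i)]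
  [∀ i, QuasiSeparatedSpace (X.obj i)] [∀ i, QuasiCompact (g.app i)] [∀ i, QuasiSeparated (g.app i)]

theorem compactSpace_qs (S : I) {V : Scheme.{u}} (v : V ⟶ X.obj S) [QuasiCompact v] [QuasiSeparated v] :
    CompactSpace V ∧ QuasiSeparatedSpace V :=
  ⟨QuasiCompact.compactSpace_of_compactSpace v, quasiSeparatedSpace_of_quasiSeparated v⟩

theorem exists_obj (hX : IsLimit cX) [Etale D.obj.hom] [IsSeparated D.obj.hom] [QuasiCompact D.obj.hom] :
    ∃ (i : I) (V : Scheme.{u}) (v : V ⟶ X.obj i) (a : D.obj.left ⟶ V),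
      IsPullback a D.obj.hom v (cX.π.app i) ∧ Etale v ∧ IsSeparated v ∧ QuasiCompact v := by
  obtain ⟨i, V, v, a, hlfp, hqc, hqs, ha⟩ := S0591.result X cX hX D.obj.left D.obj.hom
  obtain ⟨_, _⟩ := compactSpace_qs i v
  have hid : IsPullback (cX.π.app i) (𝟙 cX.pt) (𝟙 (X.obj i)) (cX.π.app i) := IsPullback.id_vert _
  have key : ∀ (P : MorphismProperty Scheme.{u}) [P.IsStableUnderBaseChange] {j : I} (φ : j ⟶ i)
      (Xi Yi : Scheme.{u}) (fi : Xi ⟶ Yi) (gi : Yi ⟶ X.obj j) (pY : Yi ⟶ X.obj i) (pX : Xi ⟶ V),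
      IsPullback pY gi (𝟙 (X.obj i)) (X.map φ) → IsPullback pX fi v pY → P fi →
        P (pullback.snd v (X.map φ)) := by
    intro P _ j φ Xi Yi fi gi pY pX hYi hXi hfi
    have hgi : IsIso gi := MorphismProperty.of_isPullback (P := MorphismProperty.isomorphisms _) hYi
      (inferInstanceAs (IsIso (𝟙 (X.obj i))))
    have hX' : IsPullback pX (fi ≫ gi) v (X.map φ) := by
      simpa using hXi.paste_vert hYi
    rw [← hX'.isoPullback_inv_snd, P.cancel_left_of_respectsIso, P.cancel_right_of_respectsIso]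
    exact hfi
  obtain ⟨j₁, φ₁, X₁, Y₁, f₁, g₁, pY₁, pX₁, hY₁, hX₁, het⟩ :=
    S9192.result X cX hX i v (𝟙 _) D.obj.hom (𝟙 _) (cX.π.app i) a hid ha
  obtain ⟨j₂, φ₂, X₂, Y₂, f₂, g₂, pY₂, pX₂, hY₂, hX₂, hsep⟩ :=
    S9190.result X cX hX i v (𝟙 _) D.obj.hom (𝟙 _) (cX.π.app i) a hid ha
  obtain ⟨k, ψ₁, ψ₂, hψ⟩ := IsCofiltered.cospan φ₁ φ₂
  have trans : ∀ (P : MorphismProperty Scheme.{u}) [P.IsStableUnderBaseChange] {j : I} (φ : j ⟶ i)
      (ψ : k ⟶ j), P (pullback.snd v (X.map φ)) → P (pullback.snd v (X.map (ψ ≫ φ))) := by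
    intro P _ j φ ψ h
    have H := (IsPullback.of_hasPullback (pullback.snd v (X.map φ)) (X.map ψ)).paste_horiz
      (IsPullback.of_hasPullback v (X.map φ))
    rw [← Functor.map_comp] at H
    rw [← H.isoPullback_inv_snd, P.cancel_left_of_respectsIso]
    exact MorphismProperty.pullback_snd _ _ h
  refine ⟨k, pullback v (X.map (ψ₁ ≫ φ₁)), pullback.snd v _,
    pullback.lift a (D.obj.hom ≫ cX.π.app k) (by rw [ha.w, Category.assoc, cX.w]), ?_,
    trans @Etale φ₁ ψ₁ (key @Etale φ₁ _ _ _ _ _ _ hY₁ hX₁ het), ?_, inferInstance⟩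
  · refine IsPullback.of_right (h₁₂ := pullback.fst v (X.map (ψ₁ ≫ φ₁))) (v₁₃ := v)
      (h₂₂ := X.map (ψ₁ ≫ φ₁)) ?_ (pullback.lift_snd _ _ _) (IsPullback.of_hasPullback _ _)
    rw [pullback.lift_fst, cX.w]
    exact ha
  · rw [hψ]
    exact trans @IsSeparated φ₂ ψ₂ (key @IsSeparated φ₂ _ _ _ _ _ _ hY₂ hX₂ hsep)

include hgl in
theorem exists_pre (hX : IsLimit cX) (hY : IsLimit cY) [Etale D.obj.hom] [IsSeparated D.obj.hom]
    [QuasiCompact D.obj.hom] : ∃ i, Nonempty (Pre g cX cY hgl D i) := by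
  obtain ⟨i, V, v, a, ha, het, hsep, hqc⟩ := exists_obj (D := D) hX
  let P := fib g g
  let cP := fibCone g g cX cX cY gl gl hgl hgl
  have hP : IsLimit cP := isLimitFibCone g g cX cX cY gl gl hgl hgl hX hX hY
  have : ∀ (i j : I) (φ : i ⟶ j), IsAffineHom (P.map φ) := isAffineHom_fib_map g g
  have : CompactSpace (P.obj i) :=
    (compactSpace_qs (X := X) i (pullback.fst (g.app i) (g.app i))).1
  have : QuasiSeparatedSpace (P.obj i) :=
    (compactSpace_qs (X := X) i (pullback.fst (g.app i) (g.app i))).2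
  let pr0 : P.obj i ⟶ X.obj i := pullback.fst (g.app i) (g.app i)
  let pr1 : P.obj i ⟶ X.obj i := pullback.snd (g.app i) (g.app i)
  let xi := pullback.snd v pr0
  let yi := pullback.snd v pr1
  have : LocallyOfFinitePresentation v := inferInstance
  have : CompactSpace ↑(pullback v pr0) := QuasiCompact.compactSpace_of_compactSpace xi
  have : QuasiSeparatedSpace ↑(pullback v pr0) := quasiSeparatedSpace_of_quasiSeparated xi
  have : CompactSpace ↑(pullback v pr1) := QuasiCompact.compactSpace_of_compactSpace yi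
  have : QuasiSeparatedSpace ↑(pullback v pr1) := quasiSeparatedSpace_of_quasiSeparated yi
  have hπ0 : cP.π.app i ≫ pr0 = pullback.fst gl gl ≫ cX.π.app i := pullback.lift_fst _ _ _
  have hπ1 : cP.π.app i ≫ pr1 = pullback.snd gl gl ≫ cX.π.app i := pullback.lift_snd _ _ _
  let zW : pullback xi (cP.π.app i) ⟶ pullback gl gl := pullback.snd xi (cP.π.app i)
  let wW : pullback xi (cP.π.app i) ⟶ D.obj.left :=
    ha.lift (pullback.fst xi _ ≫ pullback.fst v pr0) (zW ≫ pullback.fst gl gl) (by
      rw [Category.assoc, pullback.condition (f := v), pullback.condition_assoc, Category.assoc, hπ0])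
  have hwW : wW ≫ D.obj.hom = zW ≫ pullback.fst gl gl := ha.lift_snd _ _ _
  let fv : pullback xi (cP.π.app i) ⟶ D.obj.left :=
    pullback.lift (zW ≫ pullback.snd gl gl) wW (by
      rw [reassoc_of% hwW, Category.assoc, pullback.condition]) ≫ θ D
  let f : pullback xi (cP.π.app i) ⟶ pullback yi (cP.π.app i) :=
    pullback.lift (pullback.lift (fv ≫ a) (zW ≫ cP.π.app i) (by
      simp only [fv, Category.assoc, ha.w, θ_hom_assoc, pullback.lift_fst_assoc, hπ1])) zW
      (pullback.lift_snd _ _ _)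
  obtain ⟨j, φ, fj, sX, sY, h1, h2, h3, h4, h5, h6⟩ := S9218.result P cP hP i xi yi
    (pullback.fst xi _) zW (IsPullback.of_hasPullback _ _)
    (pullback.fst yi _) (pullback.snd yi _) (IsPullback.of_hasPullback _ _) f (pullback.lift_snd _ _ _)
  let vj := pullback.snd v (X.map φ)
  let zj : pullback (g.app j) (vj ≫ g.app j) ⟶ P.obj j :=
    pullback.lift (pullback.snd _ _ ≫ vj) (pullback.fst _ _) (by
      rw [Category.assoc, pullback.condition])
  have hP0 : P.map φ ≫ pr0 = pullback.fst (g.app j) (g.app j) ≫ X.map φ := pullback.lift_fst _ _ _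
  have hP1 : P.map φ ≫ pr1 = pullback.snd (g.app j) (g.app j) ≫ X.map φ := pullback.lift_snd _ _ _
  let wj : pullback (g.app j) (vj ≫ g.app j) ⟶ pullback xi (P.map φ) :=
    pullback.lift (pullback.lift (pullback.snd _ _ ≫ pullback.fst v (X.map φ)) (zj ≫ P.map φ) (by
      simp only [zj, Category.assoc, hP0, pullback.lift_fst_assoc, pullback.condition (f := v), vj]))
      zj (pullback.lift_snd _ _ _)
  let tj : pullback (g.app j) (vj ≫ g.app j) ⟶ pullback v (X.map φ) :=
    pullback.lift (wj ≫ fj ≫ pullback.fst yi (P.map φ) ≫ pullback.fst v pr1) (pullback.fst _ _) (by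
      simp only [Category.assoc, pullback.condition (f := v)]
      rw [pullback.condition_assoc (f := yi), reassoc_of% h1, hP1]
      simp [wj, zj])
  let aj : D.obj.left ⟶ pullback v (X.map φ) :=
    pullback.lift a (D.obj.hom ≫ cX.π.app j) (by rw [ha.w, Category.assoc, cX.w φ])
  have haj : IsPullback aj D.obj.hom vj (cX.π.app j) := by
    refine IsPullback.of_right (h₁₂ := pullback.fst v (X.map φ)) (v₁₃ := v) (h₂₂ := X.map φ) ?_
      (pullback.lift_snd _ _ _) (IsPullback.of_hasPullback _ _)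
    rw [pullback.lift_fst, cX.w φ]
    exact ha
  refine ⟨j, ⟨{ V := pullback v (X.map φ), v := vj, a := aj, cart := haj,
                etale := MorphismProperty.pullback_snd _ _ het
                sep := MorphismProperty.pullback_snd _ _ hsep
                qc := MorphismProperty.pullback_snd _ _ hqc
                t := tj, ht := pullback.lift_snd _ _ _, compat := ?_ }⟩⟩
  let z : src D ⟶ pullback gl gl :=
    pullback.lift (pullback.snd _ _ ≫ D.obj.hom) (pullback.fst _ _) (by
      rw [Category.assoc, pullback.condition])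
  let Z : src D ⟶ pullback xi (cP.π.app i) :=
    pullback.lift (pullback.lift (pullback.snd _ _ ≫ a) (z ≫ cP.π.app i) (by
      rw [Category.assoc, Category.assoc, ha.w, hπ0, pullback.lift_fst_assoc, Category.assoc])) z
      (pullback.lift_snd _ _ _)
  have hZw : Z ≫ wW = pullback.snd gl (D.obj.hom ≫ gl) := by
    apply ha.hom_ext
    · simp [Z, wW]
    · simp [Z, hwW, z, zW]
  have hZf : Z ≫ fv = θ D := by
    simp only [fv]
    rw [← Category.assoc]
    convert Category.id_comp (θ D) using 2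
    apply pullback.hom_ext
    · simp [Z, z, zW]
    · simp [hZw]
  have hcPπ : cP.π.app j ≫ P.map φ = cP.π.app i := cP.w φ
  have hZs : srcTo g cX cY hgl vj aj haj.w ≫ wj = Z ≫ sX := by
    have hz : srcTo g cX cY hgl vj aj haj.w ≫ zj = z ≫ cP.π.app j := by
      apply pullback.hom_ext
      · simp [srcTo, zj, z, cP, fibCone, aj, vj]
      · simp [srcTo, zj, z, cP, fibCone]
    apply pullback.hom_ext
    · rw [Category.assoc, Category.assoc, h2, pullback.lift_fst, pullback.lift_fst]
      apply pullback.hom_ext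
      · simp [srcTo, aj]
      · simp only [Category.assoc, pullback.lift_snd, reassoc_of% hz, hcPπ]
    · rw [Category.assoc, Category.assoc, h3, pullback.lift_snd, hz, pullback.lift_snd_assoc]
  apply pullback.hom_ext
  · simp only [Category.assoc, aj, tj, pullback.lift_fst]
    rw [reassoc_of% hZs, reassoc_of% h6, reassoc_of% h4]
    simp [f, reassoc_of% hZf]
  · simp [srcTo, aj, tj]

theorem exists_diag (hX : IsLimit cX) {i : I} (S : Pre g cX cY hgl D i) :
    ∃ (k : I) (φ : k ⟶ i), (S.map φ).Diag := by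
  have := S.etale; have := S.sep; have := S.qc
  obtain ⟨_, _⟩ := compactSpace_qs i S.v
  have hd : S.a ≫ pullback.lift S.v (𝟙 S.V) (Category.id_comp _).symm ≫ S.t = S.a ≫ 𝟙 S.V := by
    rw [Category.comp_id]
    conv_rhs => rw [← Category.id_comp S.a, ← diag_θ D, Category.assoc, S.compat]
    simp only [← Category.assoc]
    refine congrArg (· ≫ S.t) ?_
    apply pullback.hom_ext
    · simp [srcTo, S.cart.w]
    · simp [srcTo]
  obtain ⟨k, φ, hk⟩ := S9219.result X cX hX i S.v S.v S.a D.obj.hom S.cart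
    (pullback.lift S.v (𝟙 S.V) (Category.id_comp _).symm ≫ S.t) (𝟙 S.V)
    (by rw [Category.assoc, S.ht, pullback.lift_fst]) (Category.id_comp _) hd
  refine ⟨k, φ, ?_⟩
  apply pullback.hom_ext
  · refine (Category.assoc _ _ _).trans ((S.map_t_fst φ _ _ _).trans ?_)
    refine Eq.trans ?_ (hk.trans ((Category.comp_id _).trans (Category.id_comp _).symm))
    simp only [← Category.assoc]
    refine congrArg (· ≫ S.t) ?_
    apply pullback.hom_ext
    · rw [pullback.lift_fst, Category.assoc, pullback.lift_fst]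
      exact pullback.condition.symm
    · rw [pullback.lift_snd, Category.assoc, pullback.lift_snd]
      simp
  · refine (Category.assoc _ _ _).trans ((S.map_t_snd φ _ _ _).trans ?_)
    exact (Category.id_comp _).symm

theorem exists_trans (hX : IsLimit cX) (hY : IsLimit cY) {i : I} (S : Pre g cX cY hgl D i) :
    ∃ (k : I) (φ : k ⟶ i), (S.map φ).Trans := by
  have := S.etale; have := S.sep; have := S.qc
  let P := fib g g
  let cP := fibCone g g cX cX cY gl gl hgl hgl
  have hP : IsLimit cP := isLimitFibCone g g cX cX cY gl gl hgl hgl hX hX hY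
  have : ∀ (i j : I) (φ : i ⟶ j), IsAffineHom (P.map φ) := isAffineHom_fib_map g g
  let p1 : P ⟶ X := fibSnd g g
  let p0 : P ⟶ X := fibFst g g
  let Q := fib p1 p0
  let cQ := fibCone p1 p0 cP cP cX (pullback.snd gl gl) (pullback.fst gl gl)
    (fun _ => pullback.lift_snd _ _ _) (fun _ => pullback.lift_fst _ _ _)
  have hQ : IsLimit cQ := isLimitFibCone p1 p0 cP cP cX _ _ _ _ hP hP hX
  have : ∀ (i j : I) (φ : i ⟶ j), IsAffineHom (Q.map φ) := isAffineHom_fib_map p1 p0
  let q01 : Q.obj i ⟶ pullback (g.app i) (g.app i) := pullback.fst _ _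
  let q12 : Q.obj i ⟶ pullback (g.app i) (g.app i) := pullback.snd _ _
  let a0 : Q.obj i ⟶ X.obj i := q01 ≫ pullback.fst (g.app i) (g.app i)
  let a1 : Q.obj i ⟶ X.obj i := q01 ≫ pullback.snd (g.app i) (g.app i)
  let a2 : Q.obj i ⟶ X.obj i := q12 ≫ pullback.snd (g.app i) (g.app i)
  have ha1 : a1 = q12 ≫ pullback.fst (g.app i) (g.app i) := pullback.condition
  have hQc : CompactSpace (Q.obj i) ∧ QuasiSeparatedSpace (Q.obj i) := by
    obtain ⟨_, _⟩ := compactSpace_qs (X := X) i (pullback.fst (g.app i) (g.app i))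
    have : QuasiCompact q01 :=
      MorphismProperty.pullback_fst (P := @QuasiCompact) (p1.app i) (p0.app i)
        (inferInstanceAs (QuasiCompact (pullback.fst (g.app i) (g.app i))))
    have : QuasiSeparated q01 :=
      MorphismProperty.pullback_fst (P := @QuasiSeparated) (p1.app i) (p0.app i)
        (inferInstanceAs (QuasiSeparated (pullback.fst (g.app i) (g.app i))))
    exact ⟨QuasiCompact.compactSpace_of_compactSpace q01, quasiSeparatedSpace_of_quasiSeparated q01⟩
  obtain ⟨_, _⟩ := hQc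
  let xi := pullback.snd S.v a0
  let yi := pullback.snd S.v a2
  have : CompactSpace ↑(pullback S.v a0) := QuasiCompact.compactSpace_of_compactSpace xi
  have : QuasiSeparatedSpace ↑(pullback S.v a0) := quasiSeparatedSpace_of_quasiSeparated xi
  have : CompactSpace ↑(pullback S.v a2) := QuasiCompact.compactSpace_of_compactSpace yi
  have : QuasiSeparatedSpace ↑(pullback S.v a2) := quasiSeparatedSpace_of_quasiSeparated yi
  let w₀ := pullback.fst S.v a0
  have hg01 : a1 ≫ g.app i = a0 ≫ g.app i := by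
    simp only [a0, a1, Category.assoc, pullback.condition]
  have hg12 : a2 ≫ g.app i = a0 ≫ g.app i := by
    rw [← hg01, ha1]; simp only [a2, Category.assoc, pullback.condition]
  have hw₀ : ∀ x : Q.obj i ⟶ X.obj i, x ≫ g.app i = a0 ≫ g.app i →
      (xi ≫ x) ≫ g.app i = w₀ ≫ S.v ≫ g.app i := by
    intro x hx
    rw [Category.assoc, hx, pullback.condition_assoc]
  let R := pullback.lift (xi ≫ a2) w₀ (hw₀ a2 hg12) ≫ S.t
  let L := pullback.lift (xi ≫ a2) (pullback.lift (xi ≫ a1) w₀ (hw₀ a1 hg01) ≫ S.t) (by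
    rw [Category.assoc (f := pullback.lift _ _ _), reassoc_of% S.ht, pullback.lift_fst_assoc,
      hw₀ a2 hg12, ← hw₀ a1 hg01, Category.assoc]) ≫ S.t
  let fi : pullback S.v a0 ⟶ pullback S.v a2 := pullback.lift L xi (by
    simp only [L, Category.assoc, S.ht, pullback.lift_fst])
  let gi : pullback S.v a0 ⟶ pullback S.v a2 := pullback.lift R xi (by
    simp only [R, Category.assoc, S.ht, pullback.lift_fst])
  let qX := pullback.fst xi (cQ.π.app i)
  let Zl := pullback.snd xi (cQ.π.app i)
  let l0 : cQ.pt ⟶ cX.pt := pullback.fst _ _ ≫ pullback.fst gl gl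
  let l1 : cQ.pt ⟶ cX.pt := pullback.fst _ _ ≫ pullback.snd gl gl
  let l2 : cQ.pt ⟶ cX.pt := pullback.snd _ _ ≫ pullback.snd gl gl
  have hl0 : cQ.π.app i ≫ a0 = l0 ≫ cX.π.app i := by
    simp [cQ, a0, q01, l0, fibCone, cP]
  have hl1 : cQ.π.app i ≫ a1 = l1 ≫ cX.π.app i := by
    simp [cQ, a1, q01, l1, fibCone, cP]
  have hl2 : cQ.π.app i ≫ a2 = l2 ≫ cX.π.app i := by
    simp [cQ, a2, q12, l2, fibCone, cP]
  let wl : pullback xi (cQ.π.app i) ⟶ D.obj.left := S.cart.lift (qX ≫ w₀) (Zl ≫ l0) (by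
    rw [Category.assoc, pullback.condition (f := S.v), pullback.condition_assoc, Category.assoc, hl0])
  have hwl1 : wl ≫ S.a = qX ≫ w₀ := S.cart.lift_fst _ _ _
  have hwl2 : wl ≫ D.obj.hom = Zl ≫ l0 := S.cart.lift_snd _ _ _
  have hgl01 : l1 ≫ gl = l0 ≫ gl := by
    simp only [l0, l1, Category.assoc]
    exact congrArg (_ ≫ ·) pullback.condition.symm
  have hgl12 : l2 ≫ gl = l0 ≫ gl := by
    rw [← hgl01]
    have e : l1 = pullback.snd _ _ ≫ pullback.fst gl gl := pullback.condition
    rw [e]; simp only [l2, Category.assoc]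
    exact congrArg (_ ≫ ·) pullback.condition.symm
  have h1 : (Zl ≫ l1) ≫ gl = wl ≫ D.obj.hom ≫ gl := by
    rw [reassoc_of% hwl2, Category.assoc, hgl01]
  have h2 : (Zl ≫ l2) ≫ gl = wl ≫ D.obj.hom ≫ gl := by
    rw [reassoc_of% hwl2, Category.assoc, hgl12]
  have key := congrArg (fun k => k ≫ S.a) (lift_θ_trans D wl (Zl ≫ l1) (Zl ≫ l2) h1 h2)
  have eR : qX ≫ R = (pullback.lift (Zl ≫ l2) wl h2 ≫ θ D) ≫ S.a := by
    simp only [R, Category.assoc, S.compat]
    simp only [← Category.assoc]
    refine congrArg (· ≫ S.t) ?_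
    apply pullback.hom_ext
    · simp only [Category.assoc, pullback.lift_fst, srcTo, pullback.lift_fst_assoc, qX, Zl]
      rw [pullback.condition_assoc, hl2]
    · simp only [Category.assoc, pullback.lift_snd, srcTo, pullback.lift_snd_assoc, hwl1]
  have e1 : qX ≫ pullback.lift (xi ≫ a1) w₀ (hw₀ a1 hg01) ≫ S.t =
      (pullback.lift (Zl ≫ l1) wl h1 ≫ θ D) ≫ S.a := by
    simp only [Category.assoc, S.compat]
    simp only [← Category.assoc]
    refine congrArg (· ≫ S.t) ?_
    apply pullback.hom_ext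
    · simp only [Category.assoc, pullback.lift_fst, srcTo, pullback.lift_fst_assoc, qX, Zl]
      rw [pullback.condition_assoc, hl1]
    · simp only [Category.assoc, pullback.lift_snd, srcTo, pullback.lift_snd_assoc, hwl1]
  have eL : qX ≫ L = (pullback.lift (Zl ≫ l2) (pullback.lift (Zl ≫ l1) wl h1 ≫ θ D)
      (by rw [Category.assoc (f := pullback.lift _ _ _), θ_hom_assoc, pullback.lift_fst_assoc, h2, ← h1,
        Category.assoc]) ≫ θ D) ≫ S.a := by
    simp only [L, Category.assoc, S.compat]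
    simp only [← Category.assoc]
    refine congrArg (· ≫ S.t) ?_
    apply pullback.hom_ext
    · simp only [Category.assoc, pullback.lift_fst, srcTo, pullback.lift_fst_assoc, qX, Zl]
      rw [pullback.condition_assoc, hl2]
    · simp only [Category.assoc, pullback.lift_snd, srcTo, pullback.lift_snd_assoc]
      exact e1.trans (Category.assoc _ _ _)
  have hLR : qX ≫ fi = qX ≫ gi := by
    apply pullback.hom_ext
    · simp only [fi, gi, Category.assoc, pullback.lift_fst, eL, eR]
      exact key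
    · simp [fi, gi]
  obtain ⟨k, φ, hk⟩ := S9219.result Q cQ hQ i xi yi qX Zl (IsPullback.of_hasPullback _ _) fi gi
    (pullback.lift_snd _ _ _) (pullback.lift_snd _ _ _) hLR
  refine ⟨k, φ, fun {T} w x₁ x₂ hx₁ hx₂ => ?_⟩
  let x₀ := w ≫ pullback.snd S.v (X.map φ)
  let z : T ⟶ Q.obj k := pullback.lift
    (pullback.lift (f := g.app k) (g := g.app k) x₀ x₁ (by rw [hx₁]; exact Category.assoc _ _ _))
    (pullback.lift (f := g.app k) (g := g.app k) x₁ x₂ (by rw [hx₁, hx₂]))
    ((pullback.lift_snd _ _ _).trans (pullback.lift_fst _ _ _).symm)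
  have hz0 : z ≫ Q.map φ ≫ a0 = x₀ ≫ X.map φ := by
    simp [z, Q, P, fib, a0, q01, p0, p1, fibFst, fibSnd]
  have hz1 : z ≫ Q.map φ ≫ a1 = x₁ ≫ X.map φ := by
    simp [z, Q, P, fib, a1, q01, p0, p1, fibFst, fibSnd]
  have hz2 : z ≫ Q.map φ ≫ a2 = x₂ ≫ X.map φ := by
    simp [z, Q, P, fib, a2, q12, p0, p1, fibFst, fibSnd]
  let W : T ⟶ pullback xi (Q.map φ) :=
    pullback.lift (pullback.lift (w ≫ pullback.fst S.v (X.map φ)) (z ≫ Q.map φ) (by
      simp only [Category.assoc, hz0, x₀, pullback.condition (f := S.v)])) z (pullback.lift_snd _ _ _)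
  have hW := congrArg (fun m => W ≫ m ≫ pullback.fst S.v a2) hk
  simp only [Category.assoc, fi, gi, pullback.lift_fst] at hW
  apply pullback.hom_ext
  · refine (Category.assoc _ _ _).trans ((S.map_t_fst φ _ _ _).trans ?_)
    refine Eq.trans ?_ ((Category.assoc _ _ _).trans (S.map_t_fst φ _ _ _)).symm
    refine Eq.trans ?_ (Eq.trans hW ?_)
    · simp only [L, ← Category.assoc]
      refine congrArg (· ≫ S.t) ?_
      apply pullback.hom_ext
      · simp only [Category.assoc, pullback.lift_fst, W, xi, pullback.lift_fst_assoc]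
        rw [pullback.lift_snd_assoc, Category.assoc, hz2]
      · simp only [Category.assoc, pullback.lift_snd]
        refine ((S.map_t_fst φ _ _ _).trans ?_)
        simp only [← Category.assoc]
        refine congrArg (· ≫ S.t) ?_
        apply pullback.hom_ext
        · simp only [Category.assoc, pullback.lift_fst, W, xi, pullback.lift_fst_assoc]
          rw [pullback.lift_snd_assoc, Category.assoc, hz1]
        · simp [W, w₀]
    · simp only [R, ← Category.assoc]
      refine congrArg (· ≫ S.t) ?_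
      apply pullback.hom_ext
      · simp only [Category.assoc, pullback.lift_fst, W, xi, pullback.lift_fst_assoc]
        rw [pullback.lift_snd_assoc, Category.assoc, hz2]
      · simp [W, w₀]
  · refine (Category.assoc _ _ _).trans ((S.map_t_snd φ _ _ _).trans ?_)
    exact ((Category.assoc _ _ _).trans (S.map_t_snd φ _ _ _)).symm

theorem Pre.Trans.map {i k : I} {S : Pre g cX cY hgl D i} (h : S.Trans) (φ : k ⟶ i) : (S.map φ).Trans := by
  intro T w x₁ x₂ h₁ h₂
  apply pullback.hom_ext
  · refine (Category.assoc _ _ _).trans ((S.map_t_fst φ _ _ _).trans ?_)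
    refine Eq.trans ?_ ((Category.assoc _ _ _).trans (S.map_t_fst φ _ _ _)).symm
    refine Eq.trans (congrArg (· ≫ S.t) ?_) (h (w ≫ pullback.fst S.v (X.map φ)) (x₁ ≫ X.map φ) (x₂ ≫ X.map φ)
      (by rw [Category.assoc, g.naturality φ, reassoc_of% h₁, ← g.naturality φ]
          exact (congrArg (w ≫ ·) (pullback.condition_assoc _)).symm.trans (Category.assoc _ _ _).symm)
      (by rw [Category.assoc, g.naturality φ, reassoc_of% h₂, ← g.naturality φ]
          exact (congrArg (w ≫ ·) (pullback.condition_assoc _)).symm.trans (Category.assoc _ _ _).symm))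
    apply pullback.hom_ext
    · simp
    · simp only [pullback.lift_snd, Category.assoc]
      exact S.map_t_fst φ _ _ _
  · refine (Category.assoc _ _ _).trans ((S.map_t_snd φ _ _ _).trans ?_)
    exact ((Category.assoc _ _ _).trans (S.map_t_snd φ _ _ _)).symm

include hgl in
/-- An étale descent datum descends to a stage of a limit of morphisms. -/
theorem exists_stage_datum (hX : IsLimit cX) (hY : IsLimit cY) (D : SchDD gl) [Etale D.obj.hom]
    [IsSeparated D.obj.hom] [QuasiCompact D.obj.hom] :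
    ∃ (i : I) (D' : SchDD (g.app i)) (a : D.obj.left ⟶ D'.obj.left)
      (ha : IsPullback a D.obj.hom D'.obj.hom (cX.π.app i)),
      Etale D'.obj.hom ∧ IsSeparated D'.obj.hom ∧ QuasiCompact D'.obj.hom ∧
      θ D ≫ a = srcTo g cX cY hgl D'.obj.hom a ha.w ≫ θ D' := by
  obtain ⟨i, ⟨S⟩⟩ := exists_pre (g := g) (hgl := hgl) (D := D) hX hY
  obtain ⟨j, φ, hd⟩ := exists_diag hX S
  obtain ⟨k, ψ, hc⟩ := exists_trans hX hY (S.map φ)
  have hd' := hd.map ψ
  let R := (S.map φ).map ψ
  refine ⟨k, ofθ (Over.mk R.v) R.t R.ht hd' hc, R.a, R.cart, R.etale, R.sep, R.qc, ?_⟩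
  rw [θ_ofθ]
  exact R.compat

end

/-- Effectivity of a descended datum gives effectivity. -/
theorem exists_isQuot_of_stage {i : I} (D' : SchDD (g.app i)) (a : D.obj.left ⟶ D'.obj.left)
    (ha : IsPullback a D.obj.hom D'.obj.hom (cX.π.app i))
    (hθ : θ D ≫ a = srcTo g cX cY hgl D'.obj.hom a ha.w ≫ θ D') {U : Over (Y.obj i)}
    {π : D'.obj.left ⟶ U.left} (h : IsQuot D' U π) :
    ∃ π', IsQuot D (Over.mk (pullback.snd U.hom (cY.π.app i))) π' := by
  have hbig : IsPullback (a ≫ π) D.obj.hom U.hom (gl ≫ cY.π.app i) := by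
    rw [← hgl i]
    exact ha.paste_horiz h.isPullback
  let π' : D.obj.left ⟶ pullback U.hom (cY.π.app i) :=
    pullback.lift (a ≫ π) (D.obj.hom ≫ gl) (by rw [hbig.w, Category.assoc])
  refine ⟨π', ?_, ?_⟩
  · refine IsPullback.of_right (h₁₂ := pullback.fst U.hom (cY.π.app i)) (v₁₃ := U.hom)
      (h₂₂ := cY.π.app i) ?_ (pullback.lift_snd _ _ _) (IsPullback.of_hasPullback _ _)
    rw [pullback.lift_fst]
    exact hbig
  · show θ D ≫ π' = pullback.snd gl (D.obj.hom ≫ gl) ≫ π'
    apply pullback.hom_ext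
    · simp only [Category.assoc, π', pullback.lift_fst]
      rw [reassoc_of% hθ, h.invariant]
      simp [srcTo]
    · simp only [Category.assoc, π', pullback.lift_snd, θ_hom_assoc]
      exact pullback.condition

end Groth.Agent.Subtr56.DatumLim
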