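import Mathlib

/-! Fibre products of inverse systems of schemes. -/

set_option autoImplicit false
set_option backward.isDefEq.respectTransparency false
set_option backward.defeqAttrib.useBackward true

universe u

open CategoryTheory CategoryTheory.Limits AlgebraicGeometry

noncomputable section

namespace Groth.Agent.Subtr56.DatumLim

variable {I : Type u} [SmallCategory I] {A B C : I ⥤ Scheme.{u}} (a : A ⟶ C) (b : B ⟶ C)

/-- The levelwise fibre product. -/
def fib : I ⥤ Scheme.{u} where
  obj i := pullback (a.app i) (b.app i)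
  map φ := pullback.map _ _ _ _ (A.map φ) (B.map φ) (C.map φ) (a.naturality φ).symm (b.naturality φ).symm
  map_id i := by apply pullback.hom_ext <;> simp
  map_comp φ ψ := by apply pullback.hom_ext <;> simp

/-- The first projection. -/
def fibFst : fib a b ⟶ A where
  app i := pullback.fst (a.app i) (b.app i)
  naturality i j φ := pullback.lift_fst _ _ _

/-- The second projection. -/
def fibSnd : fib a b ⟶ B where
  app i := pullback.snd (a.app i) (b.app i)
  naturality i j φ := pullback.lift_snd _ _ _

variable (cA : Cone A) (cB : Cone B) (cC : Cone C) (al : cA.pt ⟶ cC.pt) (bl : cB.pt ⟶ cC.pt)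
  (ha : ∀ i, cA.π.app i ≫ a.app i = al ≫ cC.π.app i) (hb : ∀ i, cB.π.app i ≫ b.app i = bl ≫ cC.π.app i)

/-- The cone on the fibre product. -/
def fibCone : Cone (fib a b) where
  pt := pullback al bl
  π :=
    { app := fun i => pullback.map _ _ _ _ (cA.π.app i) (cB.π.app i) (cC.π.app i) (ha i).symm (hb i).symm
      naturality := fun i j φ => by
        apply pullback.hom_ext
        · simp [fib]
        · simp [fib] }

/-- Fibre products commute with limits. -/
def isLimitFibCone (hA : IsLimit cA) (hB : IsLimit cB) (hC : IsLimit cC) :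
    IsLimit (fibCone a b cA cB cC al bl ha hb) where
  lift s := pullback.lift
    (hA.lift ((Cone.postcompose (fibFst a b)).obj s)) (hB.lift ((Cone.postcompose (fibSnd a b)).obj s))
    (hC.hom_ext fun i => by
      simp only [Category.assoc, ← ha, ← hb]
      rw [← Category.assoc, ← Category.assoc, hA.fac, hB.fac]
      simp [fibFst, fibSnd, pullback.condition])
  fac s i := by
    apply pullback.hom_ext
    · simp [fibCone, fibFst, hA.fac]
    · simp [fibCone, fibSnd, hB.fac]
  uniq s m hm := by
    apply pullback.hom_ext
    · refine hA.hom_ext fun i => ?_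
      have := congrArg (fun k => k ≫ pullback.fst _ _) (hm i)
      simp [fibCone] at this
      simp [hA.fac, fibFst, this]
    · refine hB.hom_ext fun i => ?_
      have := congrArg (fun k => k ≫ pullback.snd _ _) (hm i)
      simp [fibCone] at this
      simp [hB.fac, fibSnd, this]

theorem isAffineHom_fib_map [∀ (i j : I) (φ : i ⟶ j), IsAffineHom (A.map φ)]
    [∀ (i j : I) (φ : i ⟶ j), IsAffineHom (B.map φ)] [∀ (i j : I) (φ : i ⟶ j), IsAffineHom (C.map φ)]
    (i j : I) (φ : i ⟶ j) : IsAffineHom ((fib a b).map φ) := by
  let m₁ := pullback.mapDesc (a.app i) (b.app i) (C.map φ)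
  let m₂ : pullback (a.app i ≫ C.map φ) (b.app i ≫ C.map φ) ⟶ pullback (a.app j) (b.app j) :=
    pullback.map _ _ _ _ (A.map φ) (B.map φ) (𝟙 _)
      (by rw [Category.comp_id]; exact (a.naturality φ).symm)
      (by rw [Category.comp_id]; exact (b.naturality φ).symm)
  have e : (fib a b).map φ = m₁ ≫ m₂ := by
    apply pullback.hom_ext <;> simp [fib, m₁, m₂]
  have h₂ : IsAffineHom m₂ := by
    let n₁ : pullback (a.app i ≫ C.map φ) (b.app i ≫ C.map φ) ⟶ pullback (a.app j) (b.app i ≫ C.map φ) :=
      pullback.map _ _ _ _ (A.map φ) (𝟙 _) (𝟙 _) (by rw [Category.comp_id]; exact (a.naturality φ).symm) (by simp)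
    let n₂ : pullback (a.app j) (b.app i ≫ C.map φ) ⟶ pullback (a.app j) (b.app j) :=
      pullback.map _ _ _ _ (𝟙 _) (B.map φ) (𝟙 _) (by simp) (by rw [Category.comp_id]; exact (b.naturality φ).symm)
    have hn₁ : IsPullback n₁ (pullback.fst _ _) (pullback.fst _ _) (A.map φ) := by
      refine IsPullback.of_right ?_ (pullback.lift_fst _ _ _) (IsPullback.of_hasPullback _ _).flip
      rw [show A.map φ ≫ a.app j = a.app i ≫ C.map φ from a.naturality φ, pullback.lift_snd, Category.comp_id]
      exact (IsPullback.of_hasPullback _ _).flip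
    have hn₂ : IsPullback n₂ (pullback.snd _ _) (pullback.snd _ _) (B.map φ) := by
      refine IsPullback.of_right ?_ (pullback.lift_snd _ _ _) (IsPullback.of_hasPullback _ _)
      rw [show B.map φ ≫ b.app j = b.app i ≫ C.map φ from b.naturality φ, pullback.lift_fst, Category.comp_id]
      exact IsPullback.of_hasPullback _ _
    have : IsAffineHom n₁ := MorphismProperty.of_isPullback hn₁.flip inferInstance
    have : IsAffineHom n₂ := MorphismProperty.of_isPullback hn₂.flip inferInstance
    have e2 : m₂ = n₁ ≫ n₂ := by apply pullback.hom_ext <;> simp [m₂, n₁, n₂]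
    rw [e2]
    infer_instance
  rw [e]
  have : IsClosedImmersion m₁ := inferInstance
  infer_instance

end Groth.Agent.Subtr56.DatumLim
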